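import Mathlib
import Cfsg.Agent.Lib.Comput.Check3
import Cfsg.Agent.Lib.LieModel.Tits.Q.Data

/-! generated by tools/cgt -/

set_option autoImplicit false
set_option maxRecDepth 100000
set_option Elab.async false

namespace CfsgLib.LieModel.Tits.Q

open CfsgLib.Comput

def R7_0 : RepC := ⟨35, 1, [],
  []⟩
def S7_0 : GenC := ⟨35, [],
  [(0, 0, 0, 1, 0), (0, 1, 0, 0, 0)], 0⟩
def L7 : Level := ⟨0x0, 0x400000000, [], 1, 91, 0, 2, [R7_0], [S7_0]⟩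
def X7 : Ext := []

def R6_0 : RepC := ⟨32, 1, [(35, 35)],
  [(91, 1, [1])]⟩
def R6_1 : RepC := ⟨34, 1, [(35, 35)],
  [(91, 1, [1])]⟩
def R6_2 : RepC := ⟨0x2220, 1, [(35, 35)],
  [(92, 1, [1])]⟩
def S6_0 : GenC := ⟨32, [(35, 35)],
  [(0, 0, 0, 1, 0), (0, 1, 0, 0, 0), (0, 2, 0, 3, 0), (0, 3, 0, 2, 0)], 0⟩
def S6_1 : GenC := ⟨34, [(35, 35)],
  [(0, 0, 0, 2, 0), (0, 1, 0, 3, 0), (0, 2, 0, 0, 0), (0, 3, 0, 1, 0)], 0⟩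
def L6 : Level := ⟨0x400000000, 0x780000000, [35], 2, 27, 0, 4, [R6_0, R6_1, R6_2], [S6_0, S6_1]⟩
def X6 : Ext := [(32, 0, 0x2023)]

def R5_0 : RepC := ⟨26, 1, [(34, 34), (35, 35), (32, 32)],
  [(220, 1, [1, 2, 3])]⟩
def R5_1 : RepC := ⟨28, 1, [(32, 32), (35, 35), (0x2220, 0x2220)],
  [(223, 1, [1, 2, 3])]⟩
def R5_2 : RepC := ⟨29, 1, [(32, 32), (35, 35), (34, 34)],
  [(221, 1, [1, 2, 3])]⟩
def S5_0 : GenC := ⟨26, [(32, 32)],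
  [(0, 0, 0, 1, 0), (0, 1, 0, 0, 0), (0, 2, 0, 3, 0x2023), (0, 3, 0, 2, 0x2023)], 0⟩
def S5_1 : GenC := ⟨28, [(32, 32)],
  [(0, 0, 0, 2, 0), (0, 1, 0, 3, 0x2023), (0, 2, 0, 0, 0), (0, 3, 0, 1, 0x2023)], 0⟩
def L5 : Level := ⟨0x780000000, 0x7fe000000, [32, 34, 35], 8, 11, 0, 4, [R5_0, R5_1, R5_2], [S5_0, S5_1]⟩
def X5 : Ext := [(26, 0, 0x1a22), (28, 0, 0x1c1a2023), (29, 0, 0x1a23), (30, 0, 29)]

def R4_0 : RepC := ⟨20, 1, [(28, 0x1c23), (35, 35), (26, 0x1a23), (32, 32), (0x1a2220, 0x1a222023)],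
  [(743, 1, [1, 2, 3, 4, 5])]⟩
def S4_0 : GenC := ⟨20, [(34, 34)],
  [(0, 0, 0, 1, 0), (0, 1, 0, 0, 0x2223)], 0⟩
def L4 : Level := ⟨0x7fe000000, 0x7fffc0000, [26, 28, 32, 34, 35], 32, 7, 0, 2, [R4_0], [S4_0]⟩
def X4 : Ext := [(18, 20, 0), (20, 0, 0x1c20), (21, 0, 0x1420), (22, 22, 0), (23, 0, 0x141d2223), (24, 24, 0)]

def R3_0 : RepC := ⟨14, 1, [(0x141c20, 0x1422), (0x222023, 0x2220), (0x1420, 0x141c22), (0x141d, 0x141a22)],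
  [(878, 3, [1, 2, 3, 4])]⟩
def S3_0 : GenC := ⟨14, [(26, 0x1a23)],
  [(0, 0, 0, 1, 0), (0, 1, 0, 0, 0x1a2220)], 0⟩
def L3 : Level := ⟨0x7fffc0000, 0x7fffff000, [20, 26, 28, 32, 34, 35], 64, 5, 0, 2, [R3_0], [S3_0]⟩
def X3 : Ext := [(12, 14, 0), (14, 0, 0xe141c20), (15, 15, 0), (16, 0, 0xe141a), (17, 17, 0)]

def R2_0 : RepC := ⟨0xc0a, 1, [(0xe1c23, 14), (0x141c2223, 0x1423), (0xe141d23, 0xe141d22)],
  [(877, 4, [1, 2, 3])]⟩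
def R2_1 : RepC := ⟨9, 2, [(0xe1c, 0xe141a22), (0x222023, 0x2223), (0x1a22, 0x1d22), (0xe1a, 0xe1420)],
  [(739, 3, [1, 2, 3, 4])]⟩
def R2_2 : RepC := ⟨10, 2, [(0xe1422, 0xe1a22), (0x1c20, 0x1c222023), (0x1a23, 0x1d2220), (0x1a22, 0x1d23)],
  [(1186, 4, [1, 2, 3, 4])]⟩
def R2_3 : RepC := ⟨0xb0a, 2, [(0x141c222023, 0x142223), (0x1a23, 0x1a222023), (29, 0x1d22), (0x1c22, 0x1c222023)],
  [(820, 4, [1, 2, 3, 4])]⟩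
def S2_0 : GenC := ⟨10, [(14, 0xe141d)],
  [(0, 0, 0, 3, 0), (0, 2, 0, 0, 0), (0, 3, 14, 4, 32), (0, 4, 20, 2, 0xe141a22), (0, 1, 20, 3, 0xe1d22), (20, 2, 0, 1, 0xe1c222023)], 1⟩
def L2 : Level := ⟨0x7fffff000, 0x7ffffff00, [14, 20, 26, 28, 32, 34, 35], 128, 3, 0, 8, [R2_0, R2_1, R2_2, R2_3], [S2_0]⟩
def X2 : Ext := [(8, 10, 0), (10, 0, 0x140a0e222023), (11, 11, 0)]

def R1_0 : RepC := ⟨0x71408, 1, [(0x1d22, 0x1d22), (0x9142220, 0x90e142220), (0x90e14, 0x914222023)],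
  [(258, 5, [1, 2, 3]), (13, 1, [1])]⟩
def R1_1 : RepC := ⟨0x508, 8, [(0x141c2223, 0xc0a1423), (0xe1d20, 0x14222023), (26, 0x1c222023)],
  [(930, 5, [1, 2, 3])]⟩
def S1_0 : GenC := ⟨8, [(0xc0a1a, 0xe1a22), (0x1a2023, 0x1a20), (0x141d, 0xc0a1a23), (34, 0x1d2023)],
  [(0, 0, 0x1409, 2, 0x1422), (0xa0a, 2, 0, 0, 0xb0e141c2023), (9, 2, 0, 2, 0xa0a0e22), (10, 2, 11, 2, 0x9141c2023), (0, 2, 0xa0a, 2, 0xb1c), (0xb0a, 2, 0, 1, 0xb0e141a), (0, 1, 9, 2, 0x141c222023)], 1⟩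
def L1 : Level := ⟨0x7ffffff00, 0x7fffffff0, [10, 14, 20, 26, 28, 32, 34, 35], 1024, 1, 0, 10, [R1_0, R1_1], [S1_0]⟩
def X1 : Ext := [(6, 8, 0), (4, 0, 0xb1420), (5, 5, 0)]

def R0_0 : RepC := ⟨0x804, 10, [(0x1a22, 0x9080c0a0e1a2220), (0xa1c23, 0x5080a1c22), (0xa0e1a222023, 0x908)],
  [(561, 5, [1, 2, 3]), (11, 1, [1])]⟩
def R0_1 : RepC := ⟨1, 80, [(0xb0e1d20, 0x14091c222023), (0x91d23, 0xa0a141d2023), (0x1409141a20, 0xa0a141d22)],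
  [(500, 5, [1, 2, 3])]⟩
def R0_2 : RepC := ⟨0x301, 640, [(0x5080b0e1c2023, 0x1409141d222023), (0x70b0e1d2220, 0xc0a0e142220), (0xa080a0e1a22, 0xb0e14222023)],
  [(14, 3, [1, 2, 3])]⟩
def R0_3 : RepC := ⟨0x20301, 1024, [(0x9070e1c20, 0x7090e142220), (0x9070b0a141a2220, 0xb0a0e14)],
  [(60, 3, [1, 2])]⟩
def S0_0 : GenC := ⟨4, [(0xe2220, 0x508090e1a2023), (0xa080a, 0xa081409141a20)],
  [(0, 0, 7, 1, 0), (0, 2, 0x919, 3, 0xb0e1a2223), (8, 1, 0, 0, 0x14080a141d23), (0, 1, 0xf071a, 2, 0x9070c0a1422), (0, 3, 0, 2, 0), (11, 3, 0x8111e, 4, 0x5080b0a1a2023), (0x1108, 2, 8, 1, 0x14080a0e141a222023), (0, 4, 0x1823, 3, 0x9080c0a0e141d), (22, 4, 0xd0713, 4, 0x81409141c222023), (18, 3, 0x16091c, 3, 0xb0a0e1c23), (8, 2, 0x71d, 2, 0xb0a0e2223), (0x1408, 1, 0x908, 1, 0x908141a22)], 8⟩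
def L0 : Level := ⟨0x7fffffff0, 0x7ffffffff, [8, 10, 14, 20, 26, 28, 32, 34, 35], 10240, 0, 0, 1755, [R0_0, R0_1, R0_2, R0_3], [S0_0]⟩
def X0 : Ext := [(2, 4, 0), (0, 0, 0x80f040414080a0a0e141c2023), (1, 1, 0)]

def top : List ℕ := [1, 3]
def gs : List ℕ := [4, 8, 10, 14, 20, 26, 28, 32, 34, 35]
def XD : Ext := [(1, 1, 0), (3, 3, 0), (4, 0, 0x20303010302020404040203010302), (5, 5, 0), (6, 0, 0x1030104010302040204010404010401), (7, 7, 0), (8, 0, 0x808080507), (9, 9, 0), (10, 0, 0x707070608), (11, 11, 0), (12, 0, 0xa0a0a0a0b09), (13, 13, 0), (14, 0, 0x90c0a0c0c09), (15, 15, 0), (16, 0, 0x90b0b0a0b0a), (17, 17, 0), (18, 0, 0xf0d), (19, 19, 0), (20, 0, 0xe12120e), (21, 0, 0x120d), (22, 22, 0), (23, 0, 0x110d), (24, 24, 0), (25, 0, 0x191513), (26, 0, 0x131815), (27, 0, 0x151613), (28, 0, 0x1913), (29, 0, 0x141815),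 (30, 0, 0x1913), (31, 0, 0x1c1e1d), (32, 0, 0x1d1a1c), (33, 0, 0x1a1b), (34, 0, 0x2021)]
def MX : Level.MaxC := [[(7, [0])], [(7, [26, 0xc070c0a0e1d])], [(0x70713, [0x82209, 0xc070c0a0e1d])], [(0x7070a, [0x1609, 0x70a0a141c23])]]
def NC : NclD := ⟨3, 13, [(0, [0x1305, 0x1170401080920]), (2, [0x23200c, 0x12040107140822])]⟩

/-- all the equations of the certificate -/
structure Eqs {G : Type*} [Group G] (g : ℕ → G) : Prop where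
  l7 : AllHold g L7.eqns
  x7 : AllHold g X7.eqns
  l6 : AllHold g L6.eqns
  x6 : AllHold g X6.eqns
  l5 : AllHold g L5.eqns
  x5 : AllHold g X5.eqns
  l4 : AllHold g L4.eqns
  x4 : AllHold g X4.eqns
  l3 : AllHold g L3.eqns
  x3 : AllHold g X3.eqns
  l2 : AllHold g L2.eqns
  x2 : AllHold g X2.eqns
  l1 : AllHold g L1.eqns
  x1 : AllHold g X1.eqns
  l0 : AllHold g L0.eqns
  x0 : AllHold g X0.eqns
  xd : AllHold g XD.eqns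
  mx : AllHold g (L0.maxEqns MX)
  nc : AllHold g NC.eqns

end CfsgLib.LieModel.Tits.Q
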